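import Cfsg.Agent.StdG24.CoSide
import Cfsg.Agent.SporRec.G24Rel
import Cfsg.Agent.Co2Type.Mono

/-!
# Six letters of `G₂(4)` in `Co₁` commuting with a four-group

The elements `x 0 … x 5` of `Co₁` satisfy the relators `R6`; their lifts in `Co₀` commute with the lifts of
`w` and `v2` and with the element `rho` of order three of `StdG24.CoSide`.
-/

set_option autoImplicit false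
set_option Elab.async false

namespace Cfsg.Agent.KFacts.Co1D4.Letters

open Cfsg Cfsg.Agent.SporadicA Cfsg.Agent.SporadicStructure.Co0Matrix Cfsg.Agent.CoOneType.CoEval
  Cfsg.Agent.CoOneType
open Cfsg.Agent.StdG24

/-- Rows of the letter 0 (times 8). -/
def R0 : List (List ℤ) :=
  [[-2,-2,-2,0,0,-2,0,-2,-2,0,-2,-2,2,2,-2,0,-2,0,2,2,-2,0,0,-2],
   [-2,-2,-2,0,0,2,0,2,2,0,-2,-2,-2,2,-2,0,2,0,-2,2,2,0,0,2],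
   [-2,-2,-2,0,0,-2,0,-2,2,0,2,-2,-2,-2,2,0,-2,0,-2,-2,-2,0,0,2],
   [0,0,0,-6,-2,0,-2,0,0,-2,0,0,0,0,0,-2,0,2,0,0,0,2,2,0],
   [0,0,0,-2,2,0,2,0,0,2,0,0,0,0,0,-6,0,-2,0,0,0,-2,-2,0],
   [-2,2,-2,0,0,-2,0,2,2,0,-2,2,2,-2,-2,0,2,0,2,-2,-2,0,0,2],
   [0,0,0,-2,2,0,-6,0,0,2,0,0,0,0,0,2,0,-2,0,0,0,-2,-2,0],
   [-2,2,-2,0,0,2,0,-2,2,0,2,2,2,2,2,0,-2,0,2,2,2,0,0,2],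
   [-2,2,2,0,0,2,0,2,-2,0,2,-2,2,-2,-2,0,-2,0,-2,2,-2,0,0,2],
   [0,0,0,-2,2,0,2,0,0,-6,0,0,0,0,0,2,0,-2,0,0,0,-2,-2,0],
   [-2,-2,2,0,0,-2,0,2,2,0,-2,2,2,-2,2,0,-2,0,-2,2,2,0,0,-2],
   [-2,-2,-2,0,0,2,0,2,-2,0,2,-2,2,-2,2,0,2,0,2,-2,2,0,0,-2],
   [2,-2,-2,0,0,2,0,2,2,0,2,2,-2,-2,-2,0,-2,0,2,2,-2,0,0,-2],
   [2,2,-2,0,0,-2,0,2,-2,0,-2,-2,-2,-2,2,0,-2,0,2,2,2,0,0,2],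
   [-2,-2,2,0,0,-2,0,2,-2,0,2,2,-2,2,-2,0,-2,0,2,-2,2,0,0,2],
   [0,0,0,-2,-6,0,2,0,0,2,0,0,0,0,0,2,0,-2,0,0,0,-2,-2,0],
   [-2,2,-2,0,0,2,0,-2,-2,0,-2,2,-2,-2,-2,0,-2,0,-2,-2,2,0,0,-2],
   [0,0,0,2,-2,0,-2,0,0,-2,0,0,0,0,0,-2,0,-6,0,0,0,2,2,0],
   [2,-2,-2,0,0,2,0,2,-2,0,-2,2,2,2,2,0,-2,0,-2,-2,-2,0,0,2],
   [2,2,-2,0,0,-2,0,2,2,0,2,-2,2,2,-2,0,-2,0,-2,-2,2,0,0,-2],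
   [-2,2,-2,0,0,-2,0,2,-2,0,2,2,-2,2,2,0,2,0,-2,2,-2,0,0,-2],
   [0,0,0,2,-2,0,-2,0,0,-2,0,0,0,0,0,-2,0,2,0,0,0,-6,2,0],
   [0,0,0,2,-2,0,-2,0,0,-2,0,0,0,0,0,-2,0,2,0,0,0,2,-6,0],
   [-2,2,2,0,0,2,0,2,2,0,-2,-2,-2,2,2,0,-2,0,2,-2,-2,0,0,-2]]

/-- Columns of the letter 0 (times 8). -/
def C0 : List (List ℤ) :=
  [[-2,-2,-2,0,0,-2,0,-2,-2,0,-2,-2,2,2,-2,0,-2,0,2,2,-2,0,0,-2],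
   [-2,-2,-2,0,0,2,0,2,2,0,-2,-2,-2,2,-2,0,2,0,-2,2,2,0,0,2],
   [-2,-2,-2,0,0,-2,0,-2,2,0,2,-2,-2,-2,2,0,-2,0,-2,-2,-2,0,0,2],
   [0,0,0,-6,-2,0,-2,0,0,-2,0,0,0,0,0,-2,0,2,0,0,0,2,2,0],
   [0,0,0,-2,2,0,2,0,0,2,0,0,0,0,0,-6,0,-2,0,0,0,-2,-2,0],
   [-2,2,-2,0,0,-2,0,2,2,0,-2,2,2,-2,-2,0,2,0,2,-2,-2,0,0,2],
   [0,0,0,-2,2,0,-6,0,0,2,0,0,0,0,0,2,0,-2,0,0,0,-2,-2,0],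
   [-2,2,-2,0,0,2,0,-2,2,0,2,2,2,2,2,0,-2,0,2,2,2,0,0,2],
   [-2,2,2,0,0,2,0,2,-2,0,2,-2,2,-2,-2,0,-2,0,-2,2,-2,0,0,2],
   [0,0,0,-2,2,0,2,0,0,-6,0,0,0,0,0,2,0,-2,0,0,0,-2,-2,0],
   [-2,-2,2,0,0,-2,0,2,2,0,-2,2,2,-2,2,0,-2,0,-2,2,2,0,0,-2],
   [-2,-2,-2,0,0,2,0,2,-2,0,2,-2,2,-2,2,0,2,0,2,-2,2,0,0,-2],
   [2,-2,-2,0,0,2,0,2,2,0,2,2,-2,-2,-2,0,-2,0,2,2,-2,0,0,-2],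
   [2,2,-2,0,0,-2,0,2,-2,0,-2,-2,-2,-2,2,0,-2,0,2,2,2,0,0,2],
   [-2,-2,2,0,0,-2,0,2,-2,0,2,2,-2,2,-2,0,-2,0,2,-2,2,0,0,2],
   [0,0,0,-2,-6,0,2,0,0,2,0,0,0,0,0,2,0,-2,0,0,0,-2,-2,0],
   [-2,2,-2,0,0,2,0,-2,-2,0,-2,2,-2,-2,-2,0,-2,0,-2,-2,2,0,0,-2],
   [0,0,0,2,-2,0,-2,0,0,-2,0,0,0,0,0,-2,0,-6,0,0,0,2,2,0],
   [2,-2,-2,0,0,2,0,2,-2,0,-2,2,2,2,2,0,-2,0,-2,-2,-2,0,0,2],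
   [2,2,-2,0,0,-2,0,2,2,0,2,-2,2,2,-2,0,-2,0,-2,-2,2,0,0,-2],
   [-2,2,-2,0,0,-2,0,2,-2,0,2,2,-2,2,2,0,2,0,-2,2,-2,0,0,-2],
   [0,0,0,2,-2,0,-2,0,0,-2,0,0,0,0,0,-2,0,2,0,0,0,-6,2,0],
   [0,0,0,2,-2,0,-2,0,0,-2,0,0,0,0,0,-2,0,2,0,0,0,2,-6,0],
   [-2,2,2,0,0,2,0,2,2,0,-2,-2,-2,2,2,0,-2,0,2,-2,-2,0,0,-2]]

theorem ok_0 : Ok R0 C0 := CoFast.ok_of_okZ (by decide +kernel)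

/-- Rows of the letter 1 (times 8). -/
def R1 : List (List ℤ) :=
  [[0,0,0,0,0,-2,2,0,-2,2,0,2,0,-2,-2,2,-2,2,-2,-2,-2,-2,2,-2],
   [0,0,0,0,0,2,2,0,-2,-2,0,2,0,2,-2,2,2,2,2,2,-2,-2,-2,2],
   [0,0,0,0,0,-2,-2,0,2,2,0,2,0,2,2,2,2,2,-2,-2,2,-2,-2,2],
   [0,0,0,0,0,2,2,0,2,2,0,-2,0,2,2,2,-2,2,-2,2,-2,2,-2,-2],
   [0,0,0,0,0,-2,2,0,-2,2,0,-2,0,2,-2,-2,2,-2,-2,-2,-2,2,-2,2],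
   [-2,2,-2,2,-2,-4,0,2,0,0,2,0,-2,0,0,0,0,0,0,4,0,0,0,0],
   [2,2,-2,2,2,0,-4,-2,0,0,2,0,2,0,0,0,0,0,0,0,-4,0,0,0],
   [0,0,0,0,0,2,-2,0,-2,2,0,2,0,2,-2,-2,-2,-2,-2,2,2,-2,-2,-2],
   [-2,-2,2,2,-2,0,0,-2,-4,0,2,0,2,0,4,0,0,0,0,0,0,0,0,0],
   [2,-2,2,2,2,0,0,2,0,-4,2,0,-2,0,0,0,0,0,-4,0,0,0,0,0],
   [0,0,0,0,0,2,2,0,2,2,0,2,0,-2,2,-2,2,-2,-2,2,-2,-2,2,2],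
   [2,2,2,-2,-2,0,0,2,0,0,2,-4,2,0,0,0,0,0,0,0,0,-4,0,0],
   [0,0,0,0,0,-2,2,0,2,-2,0,2,0,2,2,-2,-2,-2,2,-2,-2,-2,-2,-2],
   [-2,2,2,2,2,0,0,2,0,0,-2,0,2,-4,0,0,0,0,0,0,0,0,-4,0],
   [-2,-2,2,2,-2,0,0,-2,4,0,2,0,2,0,-4,0,0,0,0,0,0,0,0,0],
   [2,2,2,2,-2,0,0,-2,0,0,-2,0,-2,0,0,-4,0,4,0,0,0,0,0,0],
   [-2,2,2,-2,2,0,0,-2,0,0,2,0,-2,0,0,0,-4,0,0,0,0,0,0,4],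
   [2,2,2,2,-2,0,0,-2,0,0,-2,0,-2,0,0,4,0,-4,0,0,0,0,0,0],
   [-2,2,-2,-2,-2,0,0,-2,0,-4,-2,0,2,0,0,0,0,0,-4,0,0,0,0,0],
   [-2,2,-2,2,-2,4,0,2,0,0,2,0,-2,0,0,0,0,0,0,-4,0,0,0,0],
   [-2,-2,2,-2,-2,0,-4,2,0,0,-2,0,-2,0,0,0,0,0,0,0,-4,0,0,0],
   [-2,-2,-2,2,2,0,0,-2,0,0,-2,-4,-2,0,0,0,0,0,0,0,0,-4,0,0],
   [2,-2,-2,-2,-2,0,0,-2,0,0,2,0,-2,-4,0,0,0,0,0,0,0,0,-4,0],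
   [-2,2,2,-2,2,0,0,-2,0,0,2,0,-2,0,0,0,4,0,0,0,0,0,0,-4]]

/-- Columns of the letter 1 (times 8). -/
def C1 : List (List ℤ) :=
  [[0,0,0,0,0,-2,2,0,-2,2,0,2,0,-2,-2,2,-2,2,-2,-2,-2,-2,2,-2],
   [0,0,0,0,0,2,2,0,-2,-2,0,2,0,2,-2,2,2,2,2,2,-2,-2,-2,2],
   [0,0,0,0,0,-2,-2,0,2,2,0,2,0,2,2,2,2,2,-2,-2,2,-2,-2,2],
   [0,0,0,0,0,2,2,0,2,2,0,-2,0,2,2,2,-2,2,-2,2,-2,2,-2,-2],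
   [0,0,0,0,0,-2,2,0,-2,2,0,-2,0,2,-2,-2,2,-2,-2,-2,-2,2,-2,2],
   [-2,2,-2,2,-2,-4,0,2,0,0,2,0,-2,0,0,0,0,0,0,4,0,0,0,0],
   [2,2,-2,2,2,0,-4,-2,0,0,2,0,2,0,0,0,0,0,0,0,-4,0,0,0],
   [0,0,0,0,0,2,-2,0,-2,2,0,2,0,2,-2,-2,-2,-2,-2,2,2,-2,-2,-2],
   [-2,-2,2,2,-2,0,0,-2,-4,0,2,0,2,0,4,0,0,0,0,0,0,0,0,0],
   [2,-2,2,2,2,0,0,2,0,-4,2,0,-2,0,0,0,0,0,-4,0,0,0,0,0],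
   [0,0,0,0,0,2,2,0,2,2,0,2,0,-2,2,-2,2,-2,-2,2,-2,-2,2,2],
   [2,2,2,-2,-2,0,0,2,0,0,2,-4,2,0,0,0,0,0,0,0,0,-4,0,0],
   [0,0,0,0,0,-2,2,0,2,-2,0,2,0,2,2,-2,-2,-2,2,-2,-2,-2,-2,-2],
   [-2,2,2,2,2,0,0,2,0,0,-2,0,2,-4,0,0,0,0,0,0,0,0,-4,0],
   [-2,-2,2,2,-2,0,0,-2,4,0,2,0,2,0,-4,0,0,0,0,0,0,0,0,0],
   [2,2,2,2,-2,0,0,-2,0,0,-2,0,-2,0,0,-4,0,4,0,0,0,0,0,0],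
   [-2,2,2,-2,2,0,0,-2,0,0,2,0,-2,0,0,0,-4,0,0,0,0,0,0,4],
   [2,2,2,2,-2,0,0,-2,0,0,-2,0,-2,0,0,4,0,-4,0,0,0,0,0,0],
   [-2,2,-2,-2,-2,0,0,-2,0,-4,-2,0,2,0,0,0,0,0,-4,0,0,0,0,0],
   [-2,2,-2,2,-2,4,0,2,0,0,2,0,-2,0,0,0,0,0,0,-4,0,0,0,0],
   [-2,-2,2,-2,-2,0,-4,2,0,0,-2,0,-2,0,0,0,0,0,0,0,-4,0,0,0],
   [-2,-2,-2,2,2,0,0,-2,0,0,-2,-4,-2,0,0,0,0,0,0,0,0,-4,0,0],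
   [2,-2,-2,-2,-2,0,0,-2,0,0,2,0,-2,-4,0,0,0,0,0,0,0,0,-4,0],
   [-2,2,2,-2,2,0,0,-2,0,0,2,0,-2,0,0,0,4,0,0,0,0,0,0,-4]]

theorem ok_1 : Ok R1 C1 := CoFast.ok_of_okZ (by decide +kernel)

/-- Rows of the letter 2 (times 8). -/
def R2 : List (List ℤ) :=
  [[2,-2,-2,0,0,0,-2,-2,-2,2,-2,0,2,2,0,0,-2,2,-2,2,-2,0,-2,0],
   [-2,2,-2,0,0,0,2,2,2,2,-2,0,-2,2,0,0,2,2,-2,2,-2,0,2,0],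
   [-2,-2,2,0,0,0,2,-2,2,-2,2,0,-2,2,0,0,-2,2,-2,-2,-2,0,-2,0],
   [0,0,0,-2,-2,2,0,0,0,0,0,-2,0,0,2,-2,0,0,0,0,0,6,0,-2],
   [0,0,0,-2,6,2,0,0,0,0,0,-2,0,0,2,-2,0,0,0,0,0,-2,0,-2],
   [0,0,0,2,2,6,0,0,0,0,0,2,0,0,-2,2,0,0,0,0,0,2,0,2],
   [-2,2,2,0,0,0,2,-2,-2,2,2,0,2,2,0,0,2,-2,2,2,-2,0,-2,0],
   [-2,2,-2,0,0,0,-2,2,2,2,2,0,2,2,0,0,-2,2,2,-2,2,0,-2,0],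
   [-2,2,2,0,0,0,-2,2,2,-2,-2,0,2,-2,0,0,-2,-2,-2,2,-2,0,-2,0],
   [2,2,-2,0,0,0,2,2,-2,2,2,0,-2,-2,0,0,-2,-2,-2,-2,-2,0,-2,0],
   [-2,-2,2,0,0,0,2,2,-2,2,2,0,2,-2,0,0,-2,2,-2,2,2,0,2,0],
   [0,0,0,-2,-2,2,0,0,0,0,0,6,0,0,2,-2,0,0,0,0,0,-2,0,-2],
   [2,-2,-2,0,0,0,2,2,2,-2,2,0,2,-2,0,0,2,2,2,2,-2,0,-2,0],
   [2,2,2,0,0,0,2,2,-2,-2,-2,0,-2,2,0,0,-2,2,2,2,2,0,-2,0],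
   [0,0,0,2,2,-2,0,0,0,0,0,2,0,0,6,2,0,0,0,0,0,2,0,2],
   [0,0,0,-2,-2,2,0,0,0,0,0,-2,0,0,2,6,0,0,0,0,0,-2,0,-2],
   [-2,2,-2,0,0,0,2,-2,-2,-2,-2,0,2,-2,0,0,2,2,-2,-2,2,0,-2,0],
   [2,2,2,0,0,0,-2,2,-2,-2,2,0,2,2,0,0,2,2,-2,-2,-2,0,2,0],
   [-2,-2,-2,0,0,0,2,2,-2,-2,-2,0,2,2,0,0,-2,-2,2,-2,-2,0,2,0],
   [2,2,-2,0,0,0,2,-2,2,-2,2,0,2,2,0,0,-2,-2,-2,2,2,0,2,0],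
   [-2,-2,-2,0,0,0,-2,2,-2,-2,2,0,-2,2,0,0,2,-2,-2,2,2,0,-2,0],
   [0,0,0,6,-2,2,0,0,0,0,0,-2,0,0,2,-2,0,0,0,0,0,-2,0,-2],
   [-2,2,-2,0,0,0,-2,-2,-2,-2,2,0,-2,-2,0,0,-2,2,2,2,-2,0,2,0],
   [0,0,0,-2,-2,2,0,0,0,0,0,-2,0,0,2,-2,0,0,0,0,0,-2,0,6]]

/-- Columns of the letter 2 (times 8). -/
def C2 : List (List ℤ) :=
  [[2,-2,-2,0,0,0,-2,-2,-2,2,-2,0,2,2,0,0,-2,2,-2,2,-2,0,-2,0],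
   [-2,2,-2,0,0,0,2,2,2,2,-2,0,-2,2,0,0,2,2,-2,2,-2,0,2,0],
   [-2,-2,2,0,0,0,2,-2,2,-2,2,0,-2,2,0,0,-2,2,-2,-2,-2,0,-2,0],
   [0,0,0,-2,-2,2,0,0,0,0,0,-2,0,0,2,-2,0,0,0,0,0,6,0,-2],
   [0,0,0,-2,6,2,0,0,0,0,0,-2,0,0,2,-2,0,0,0,0,0,-2,0,-2],
   [0,0,0,2,2,6,0,0,0,0,0,2,0,0,-2,2,0,0,0,0,0,2,0,2],
   [-2,2,2,0,0,0,2,-2,-2,2,2,0,2,2,0,0,2,-2,2,2,-2,0,-2,0],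
   [-2,2,-2,0,0,0,-2,2,2,2,2,0,2,2,0,0,-2,2,2,-2,2,0,-2,0],
   [-2,2,2,0,0,0,-2,2,2,-2,-2,0,2,-2,0,0,-2,-2,-2,2,-2,0,-2,0],
   [2,2,-2,0,0,0,2,2,-2,2,2,0,-2,-2,0,0,-2,-2,-2,-2,-2,0,-2,0],
   [-2,-2,2,0,0,0,2,2,-2,2,2,0,2,-2,0,0,-2,2,-2,2,2,0,2,0],
   [0,0,0,-2,-2,2,0,0,0,0,0,6,0,0,2,-2,0,0,0,0,0,-2,0,-2],
   [2,-2,-2,0,0,0,2,2,2,-2,2,0,2,-2,0,0,2,2,2,2,-2,0,-2,0],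
   [2,2,2,0,0,0,2,2,-2,-2,-2,0,-2,2,0,0,-2,2,2,2,2,0,-2,0],
   [0,0,0,2,2,-2,0,0,0,0,0,2,0,0,6,2,0,0,0,0,0,2,0,2],
   [0,0,0,-2,-2,2,0,0,0,0,0,-2,0,0,2,6,0,0,0,0,0,-2,0,-2],
   [-2,2,-2,0,0,0,2,-2,-2,-2,-2,0,2,-2,0,0,2,2,-2,-2,2,0,-2,0],
   [2,2,2,0,0,0,-2,2,-2,-2,2,0,2,2,0,0,2,2,-2,-2,-2,0,2,0],
   [-2,-2,-2,0,0,0,2,2,-2,-2,-2,0,2,2,0,0,-2,-2,2,-2,-2,0,2,0],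
   [2,2,-2,0,0,0,2,-2,2,-2,2,0,2,2,0,0,-2,-2,-2,2,2,0,2,0],
   [-2,-2,-2,0,0,0,-2,2,-2,-2,2,0,-2,2,0,0,2,-2,-2,2,2,0,-2,0],
   [0,0,0,6,-2,2,0,0,0,0,0,-2,0,0,2,-2,0,0,0,0,0,-2,0,-2],
   [-2,2,-2,0,0,0,-2,-2,-2,-2,2,0,-2,-2,0,0,-2,2,2,2,-2,0,2,0],
   [0,0,0,-2,-2,2,0,0,0,0,0,-2,0,0,2,-2,0,0,0,0,0,-2,0,6]]

theorem ok_2 : Ok R2 C2 := CoFast.ok_of_okZ (by decide +kernel)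

/-- Rows of the letter 3 (times 8). -/
def R3 : List (List ℤ) :=
  [[0,-2,2,2,-2,-2,2,-2,0,0,2,0,0,-2,2,2,2,0,2,2,-2,0,0,2],
   [2,0,-4,0,0,0,0,0,2,-2,0,-2,2,0,0,0,0,-2,4,0,0,-2,2,0],
   [-2,4,0,0,0,0,0,0,-2,-2,0,2,-2,0,0,0,0,-2,0,0,0,-2,2,4],
   [-2,0,0,0,0,-4,0,0,2,-2,0,2,2,4,0,0,0,2,0,0,0,-2,-2,0],
   [2,0,0,0,0,0,0,-4,-2,-2,-4,-2,-2,0,0,0,0,2,0,0,0,-2,-2,0],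
   [2,0,0,4,0,0,0,0,-2,-2,0,2,2,0,0,-4,0,-2,0,0,0,2,-2,0],
   [-2,0,0,0,0,0,0,-4,2,2,-4,2,2,0,0,0,0,-2,0,0,0,2,2,0],
   [2,0,0,0,4,0,4,0,-2,2,0,2,2,0,0,0,0,2,0,0,0,-2,2,0],
   [0,-2,2,-2,2,2,-2,2,0,0,-2,0,0,2,2,-2,2,0,2,2,-2,0,0,2],
   [0,2,2,2,2,2,-2,-2,0,0,2,0,0,2,-2,2,2,0,2,-2,-2,0,0,-2],
   [-2,0,0,0,4,0,4,0,2,-2,0,-2,-2,0,0,0,0,-2,0,0,0,2,-2,0],
   [0,2,-2,-2,2,-2,-2,-2,0,0,2,0,0,-2,2,-2,2,0,-2,2,-2,0,0,-2],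
   [0,-2,2,-2,2,-2,-2,-2,0,0,2,0,0,-2,-2,-2,-2,0,2,-2,2,0,0,2],
   [2,0,0,-4,0,0,0,0,-2,-2,0,2,2,0,0,4,0,-2,0,0,0,2,-2,0],
   [-2,0,0,0,0,0,0,0,-2,2,0,-2,2,0,0,0,4,-2,0,0,4,-2,-2,0],
   [-2,0,0,0,0,4,0,0,2,-2,0,2,2,-4,0,0,0,2,0,0,0,-2,-2,0],
   [-2,0,0,0,0,0,0,0,-2,-2,0,-2,2,0,-4,0,0,2,0,4,0,2,2,0],
   [0,2,2,-2,-2,2,2,-2,0,0,2,0,0,2,2,-2,-2,0,2,2,2,0,0,-2],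
   [-2,-4,0,0,0,0,0,0,-2,-2,0,2,-2,0,0,0,0,-2,0,0,0,-2,2,-4],
   [-2,0,0,0,0,0,0,0,-2,2,0,-2,2,0,0,0,-4,-2,0,0,-4,-2,-2,0],
   [2,0,0,0,0,0,0,0,2,2,0,2,-2,0,-4,0,0,-2,0,4,0,-2,-2,0],
   [0,2,2,2,2,-2,-2,2,0,0,-2,0,0,-2,2,2,-2,0,2,2,2,0,0,-2],
   [0,-2,-2,2,2,2,-2,-2,0,0,2,0,0,2,2,2,-2,0,-2,2,2,0,0,2],
   [-2,0,-4,0,0,0,0,0,-2,2,0,2,-2,0,0,0,0,2,4,0,0,2,-2,0]]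

/-- Columns of the letter 3 (times 8). -/
def C3 : List (List ℤ) :=
  [[0,2,-2,-2,2,2,-2,2,0,0,-2,0,0,2,-2,-2,-2,0,-2,-2,2,0,0,-2],
   [-2,0,4,0,0,0,0,0,-2,2,0,2,-2,0,0,0,0,2,-4,0,0,2,-2,0],
   [2,-4,0,0,0,0,0,0,2,2,0,-2,2,0,0,0,0,2,0,0,0,2,-2,-4],
   [2,0,0,0,0,4,0,0,-2,2,0,-2,-2,-4,0,0,0,-2,0,0,0,2,2,0],
   [-2,0,0,0,0,0,0,4,2,2,4,2,2,0,0,0,0,-2,0,0,0,2,2,0],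
   [-2,0,0,-4,0,0,0,0,2,2,0,-2,-2,0,0,4,0,2,0,0,0,-2,2,0],
   [2,0,0,0,0,0,0,4,-2,-2,4,-2,-2,0,0,0,0,2,0,0,0,-2,-2,0],
   [-2,0,0,0,-4,0,-4,0,2,-2,0,-2,-2,0,0,0,0,-2,0,0,0,2,-2,0],
   [0,2,-2,2,-2,-2,2,-2,0,0,2,0,0,-2,-2,2,-2,0,-2,-2,2,0,0,-2],
   [0,-2,-2,-2,-2,-2,2,2,0,0,-2,0,0,-2,2,-2,-2,0,-2,2,2,0,0,2],
   [2,0,0,0,-4,0,-4,0,-2,2,0,2,2,0,0,0,0,2,0,0,0,-2,2,0],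
   [0,-2,2,2,-2,2,2,2,0,0,-2,0,0,2,-2,2,-2,0,2,-2,2,0,0,2],
   [0,2,-2,2,-2,2,2,2,0,0,-2,0,0,2,2,2,2,0,-2,2,-2,0,0,-2],
   [-2,0,0,4,0,0,0,0,2,2,0,-2,-2,0,0,-4,0,2,0,0,0,-2,2,0],
   [2,0,0,0,0,0,0,0,2,-2,0,2,-2,0,0,0,-4,2,0,0,-4,2,2,0],
   [2,0,0,0,0,-4,0,0,-2,2,0,-2,-2,4,0,0,0,-2,0,0,0,2,2,0],
   [2,0,0,0,0,0,0,0,2,2,0,2,-2,0,4,0,0,-2,0,-4,0,-2,-2,0],
   [0,-2,-2,2,2,-2,-2,2,0,0,-2,0,0,-2,-2,2,2,0,-2,-2,-2,0,0,2],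
   [2,4,0,0,0,0,0,0,2,2,0,-2,2,0,0,0,0,2,0,0,0,2,-2,4],
   [2,0,0,0,0,0,0,0,2,-2,0,2,-2,0,0,0,4,2,0,0,4,2,2,0],
   [-2,0,0,0,0,0,0,0,-2,-2,0,-2,2,0,4,0,0,2,0,-4,0,2,2,0],
   [0,-2,-2,-2,-2,2,2,-2,0,0,2,0,0,2,-2,-2,2,0,-2,-2,-2,0,0,2],
   [0,2,2,-2,-2,-2,2,2,0,0,-2,0,0,-2,-2,-2,2,0,2,-2,-2,0,0,-2],
   [2,0,4,0,0,0,0,0,2,-2,0,-2,2,0,0,0,0,-2,-4,0,0,-2,2,0]]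

theorem ok_3 : Ok R3 C3 := CoFast.ok_of_okZ (by decide +kernel)

/-- Rows of the letter 4 (times 8). -/
def R4 : List (List ℤ) :=
  [[0,-2,2,4,0,-2,2,-2,0,0,0,0,-2,2,0,0,2,0,0,-2,-2,0,-2,2],
   [2,0,-4,2,-2,0,0,0,2,-2,2,-2,0,0,2,2,0,2,2,0,0,2,0,0],
   [-2,4,0,2,2,0,0,0,2,-2,2,2,0,0,2,-2,0,-2,2,0,0,-2,0,0],
   [-4,-2,-2,0,0,-2,-2,-2,0,0,0,0,2,2,0,0,-2,0,0,-2,2,0,-2,-2],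
   [0,2,-2,0,0,2,-2,-2,0,0,-4,0,-2,2,0,0,2,0,0,2,2,0,-2,2],
   [2,0,0,2,-2,0,0,0,2,-2,-2,2,0,0,-2,-2,0,-2,-2,0,0,2,0,-4],
   [-2,0,0,2,2,0,0,0,2,2,-2,-2,0,0,-2,2,0,-2,2,0,0,2,4,0],
   [2,0,0,2,2,0,0,0,-2,-2,-2,2,4,0,-2,2,0,2,2,0,0,-2,0,0],
   [0,-2,-2,0,0,-2,-2,2,0,0,0,0,2,2,0,-4,2,0,0,2,-2,0,2,2],
   [0,2,2,0,0,2,-2,2,0,0,0,-4,2,2,0,0,2,0,0,-2,-2,0,-2,-2],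
   [0,-2,-2,0,4,2,2,2,0,0,0,0,-2,2,0,0,-2,0,0,2,-2,0,-2,-2],
   [0,2,-2,0,0,-2,2,-2,0,4,0,0,2,-2,0,0,2,0,0,2,-2,0,-2,-2],
   [2,0,0,-2,2,0,0,-4,-2,-2,2,-2,0,0,-2,-2,0,-2,2,0,0,2,0,0],
   [-2,0,0,-2,-2,0,0,0,-2,-2,-2,2,0,0,2,2,0,-2,2,0,-4,2,0,0],
   [0,-2,-2,0,0,2,2,2,0,0,0,0,2,-2,0,0,2,-4,0,-2,2,0,-2,2],
   [0,-2,2,0,0,2,-2,-2,4,0,0,0,2,-2,0,0,-2,0,0,2,-2,0,-2,2],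
   [-2,0,0,2,-2,0,0,0,-2,-2,2,-2,0,0,-2,2,0,-2,-2,4,0,-2,0,0],
   [0,-2,2,0,0,2,2,-2,0,0,0,0,2,2,4,0,2,0,0,2,2,0,2,-2],
   [0,-2,-2,0,0,2,-2,-2,0,0,0,0,-2,-2,0,0,2,0,0,-2,-2,-4,2,-2],
   [2,0,0,2,-2,0,0,0,-2,2,-2,-2,0,0,2,-2,-4,-2,2,0,0,-2,0,0],
   [2,0,0,-2,-2,0,0,0,2,2,2,2,0,4,-2,2,0,-2,2,0,0,-2,0,0],
   [0,-2,2,0,0,-2,-2,2,0,0,0,0,-2,-2,0,0,2,0,4,2,2,0,-2,-2],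
   [2,0,0,2,2,0,-4,0,-2,2,2,2,0,0,2,2,0,-2,-2,0,0,2,0,0],
   [-2,0,0,2,-2,4,0,0,-2,2,2,2,0,0,-2,-2,0,2,2,0,0,2,0,0]]

/-- Columns of the letter 4 (times 8). -/
def C4 : List (List ℤ) :=
  [[0,2,-2,-4,0,2,-2,2,0,0,0,0,2,-2,0,0,-2,0,0,2,2,0,2,-2],
   [-2,0,4,-2,2,0,0,0,-2,2,-2,2,0,0,-2,-2,0,-2,-2,0,0,-2,0,0],
   [2,-4,0,-2,-2,0,0,0,-2,2,-2,-2,0,0,-2,2,0,2,-2,0,0,2,0,0],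
   [4,2,2,0,0,2,2,2,0,0,0,0,-2,-2,0,0,2,0,0,2,-2,0,2,2],
   [0,-2,2,0,0,-2,2,2,0,0,4,0,2,-2,0,0,-2,0,0,-2,-2,0,2,-2],
   [-2,0,0,-2,2,0,0,0,-2,2,2,-2,0,0,2,2,0,2,2,0,0,-2,0,4],
   [2,0,0,-2,-2,0,0,0,-2,-2,2,2,0,0,2,-2,0,2,-2,0,0,-2,-4,0],
   [-2,0,0,-2,-2,0,0,0,2,2,2,-2,-4,0,2,-2,0,-2,-2,0,0,2,0,0],
   [0,2,2,0,0,2,2,-2,0,0,0,0,-2,-2,0,4,-2,0,0,-2,2,0,-2,-2],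
   [0,-2,-2,0,0,-2,2,-2,0,0,0,4,-2,-2,0,0,-2,0,0,2,2,0,2,2],
   [0,2,2,0,-4,-2,-2,-2,0,0,0,0,2,-2,0,0,2,0,0,-2,2,0,2,2],
   [0,-2,2,0,0,2,-2,2,0,-4,0,0,-2,2,0,0,-2,0,0,-2,2,0,2,2],
   [-2,0,0,2,-2,0,0,4,2,2,-2,2,0,0,2,2,0,2,-2,0,0,-2,0,0],
   [2,0,0,2,2,0,0,0,2,2,2,-2,0,0,-2,-2,0,2,-2,0,4,-2,0,0],
   [0,2,2,0,0,-2,-2,-2,0,0,0,0,-2,2,0,0,-2,4,0,2,-2,0,2,-2],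
   [0,2,-2,0,0,-2,2,2,-4,0,0,0,-2,2,0,0,2,0,0,-2,2,0,2,-2],
   [2,0,0,-2,2,0,0,0,2,2,-2,2,0,0,2,-2,0,2,2,-4,0,2,0,0],
   [0,2,-2,0,0,-2,-2,2,0,0,0,0,-2,-2,-4,0,-2,0,0,-2,-2,0,-2,2],
   [0,2,2,0,0,-2,2,2,0,0,0,0,2,2,0,0,-2,0,0,2,2,4,-2,2],
   [-2,0,0,-2,2,0,0,0,2,-2,2,2,0,0,-2,2,4,2,-2,0,0,2,0,0],
   [-2,0,0,2,2,0,0,0,-2,-2,-2,-2,0,-4,2,-2,0,2,-2,0,0,2,0,0],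
   [0,2,-2,0,0,2,2,-2,0,0,0,0,2,2,0,0,-2,0,-4,-2,-2,0,2,2],
   [-2,0,0,-2,-2,0,4,0,2,-2,-2,-2,0,0,-2,-2,0,2,2,0,0,-2,0,0],
   [2,0,0,-2,2,-4,0,0,2,-2,-2,-2,0,0,2,2,0,-2,-2,0,0,-2,0,0]]

theorem ok_4 : Ok R4 C4 := CoFast.ok_of_okZ (by decide +kernel)

/-- Rows of the letter 5 (times 8). -/
def R5 : List (List ℤ) :=
  [[4,0,0,0,0,0,-2,0,-2,2,0,0,0,2,0,0,0,-2,0,2,-4,2,0,-2],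
   [0,4,0,0,0,0,-2,0,2,2,0,0,0,2,0,0,4,2,0,2,0,-2,0,2],
   [0,0,4,0,0,-4,-2,0,2,2,0,0,0,-2,0,0,0,-2,0,-2,0,2,0,2],
   [0,0,0,4,0,0,-2,0,-2,-2,0,0,0,-2,0,0,0,2,0,2,0,2,-4,2],
   [0,0,0,0,4,0,2,0,-2,2,0,0,0,-2,0,-4,0,-2,0,2,0,-2,0,2],
   [0,0,-4,0,0,4,-2,0,2,2,0,0,0,-2,0,0,0,-2,0,-2,0,2,0,2],
   [-2,-2,-2,-2,2,-2,0,2,0,0,-2,-2,2,0,2,2,2,0,-2,0,-2,0,-2,0],
   [0,0,0,0,0,0,2,4,2,-2,0,4,0,2,0,0,0,-2,0,2,0,2,0,2],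
   [-2,2,2,-2,-2,2,0,2,0,0,2,-2,2,0,-2,-2,-2,0,-2,0,-2,0,-2,0],
   [2,2,2,-2,2,2,0,-2,0,0,-2,2,2,0,2,2,-2,0,-2,0,2,0,-2,0],
   [0,0,0,0,0,0,-2,0,2,-2,4,0,0,-2,4,0,0,-2,0,2,0,-2,0,-2],
   [0,0,0,0,0,0,-2,4,-2,2,0,4,0,-2,0,0,0,2,0,-2,0,-2,0,-2],
   [0,0,0,0,0,0,2,0,2,2,0,0,4,-2,0,0,0,2,4,2,0,2,0,-2],
   [2,2,-2,-2,-2,-2,0,2,0,0,-2,-2,-2,0,2,-2,-2,0,2,0,2,0,-2,0],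
   [0,0,0,0,0,0,2,0,-2,2,4,0,0,2,4,0,0,2,0,-2,0,2,0,2],
   [0,0,0,0,-4,0,2,0,-2,2,0,0,0,-2,0,4,0,-2,0,2,0,-2,0,2],
   [0,4,0,0,0,0,2,0,-2,-2,0,0,0,-2,0,0,4,-2,0,-2,0,2,0,-2],
   [-2,2,-2,2,-2,-2,0,-2,0,0,-2,2,2,0,2,-2,-2,0,-2,0,-2,0,2,0],
   [0,0,0,0,0,0,-2,0,-2,-2,0,0,4,2,0,0,0,-2,4,-2,0,-2,0,2],
   [2,2,-2,2,2,-2,0,2,0,0,2,-2,2,0,-2,2,-2,0,-2,0,2,0,2,0],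
   [-4,0,0,0,0,0,-2,0,-2,2,0,0,0,2,0,0,0,-2,0,2,4,2,0,-2],
   [2,-2,2,2,-2,2,0,2,0,0,-2,-2,2,0,2,-2,2,0,-2,0,2,0,2,0],
   [0,0,0,-4,0,0,-2,0,-2,-2,0,0,0,-2,0,0,0,2,0,2,0,2,4,2],
   [-2,2,2,2,2,2,0,2,0,0,-2,-2,-2,0,2,2,-2,0,2,0,-2,0,2,0]]

/-- Columns of the letter 5 (times 8). -/
def C5 : List (List ℤ) :=
  [[4,0,0,0,0,0,-2,0,-2,2,0,0,0,2,0,0,0,-2,0,2,-4,2,0,-2],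
   [0,4,0,0,0,0,-2,0,2,2,0,0,0,2,0,0,4,2,0,2,0,-2,0,2],
   [0,0,4,0,0,-4,-2,0,2,2,0,0,0,-2,0,0,0,-2,0,-2,0,2,0,2],
   [0,0,0,4,0,0,-2,0,-2,-2,0,0,0,-2,0,0,0,2,0,2,0,2,-4,2],
   [0,0,0,0,4,0,2,0,-2,2,0,0,0,-2,0,-4,0,-2,0,2,0,-2,0,2],
   [0,0,-4,0,0,4,-2,0,2,2,0,0,0,-2,0,0,0,-2,0,-2,0,2,0,2],
   [-2,-2,-2,-2,2,-2,0,2,0,0,-2,-2,2,0,2,2,2,0,-2,0,-2,0,-2,0],
   [0,0,0,0,0,0,2,4,2,-2,0,4,0,2,0,0,0,-2,0,2,0,2,0,2],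
   [-2,2,2,-2,-2,2,0,2,0,0,2,-2,2,0,-2,-2,-2,0,-2,0,-2,0,-2,0],
   [2,2,2,-2,2,2,0,-2,0,0,-2,2,2,0,2,2,-2,0,-2,0,2,0,-2,0],
   [0,0,0,0,0,0,-2,0,2,-2,4,0,0,-2,4,0,0,-2,0,2,0,-2,0,-2],
   [0,0,0,0,0,0,-2,4,-2,2,0,4,0,-2,0,0,0,2,0,-2,0,-2,0,-2],
   [0,0,0,0,0,0,2,0,2,2,0,0,4,-2,0,0,0,2,4,2,0,2,0,-2],
   [2,2,-2,-2,-2,-2,0,2,0,0,-2,-2,-2,0,2,-2,-2,0,2,0,2,0,-2,0],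
   [0,0,0,0,0,0,2,0,-2,2,4,0,0,2,4,0,0,2,0,-2,0,2,0,2],
   [0,0,0,0,-4,0,2,0,-2,2,0,0,0,-2,0,4,0,-2,0,2,0,-2,0,2],
   [0,4,0,0,0,0,2,0,-2,-2,0,0,0,-2,0,0,4,-2,0,-2,0,2,0,-2],
   [-2,2,-2,2,-2,-2,0,-2,0,0,-2,2,2,0,2,-2,-2,0,-2,0,-2,0,2,0],
   [0,0,0,0,0,0,-2,0,-2,-2,0,0,4,2,0,0,0,-2,4,-2,0,-2,0,2],
   [2,2,-2,2,2,-2,0,2,0,0,2,-2,2,0,-2,2,-2,0,-2,0,2,0,2,0],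
   [-4,0,0,0,0,0,-2,0,-2,2,0,0,0,2,0,0,0,-2,0,2,4,2,0,-2],
   [2,-2,2,2,-2,2,0,2,0,0,-2,-2,2,0,2,-2,2,0,-2,0,2,0,2,0],
   [0,0,0,-4,0,0,-2,0,-2,-2,0,0,0,-2,0,0,0,2,0,2,0,2,4,2],
   [-2,2,2,2,2,2,0,2,0,0,-2,-2,-2,0,2,2,-2,0,2,0,-2,0,2,0]]

theorem ok_5 : Ok R5 C5 := CoFast.ok_of_okZ (by decide +kernel)

/-- The matrices: letters `0 … 5`, then `6 = w`, `12 = v2`, `13 = rho`, `14 = rho⁻¹`. -/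
def M : ℕ → List (List ℤ)
  | 0 => R0
  | 1 => R1
  | 2 => R2
  | 3 => R3
  | 4 => R4
  | 5 => R5
  | 12 => CoSide.jR
  | 13 => CoSide.rR
  | 14 => CoSide.rC
  | _ => Model.M 6

/-- The letters in `Co0`. -/
def e : ℕ → Co0
  | 0 => mk ok_0
  | 1 => mk ok_1
  | 2 => mk ok_2
  | 3 => mk ok_3
  | 4 => mk ok_4
  | 5 => mk ok_5
  | 12 => CoSide.e 12
  | 13 => CoSide.e 13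
  | 14 => CoSide.e 14
  | _ => Model.e 6

theorem hM : ∀ i, Rep (e i) (M i) := by
  intro i
  unfold e M
  split
  · exact rep_mk ok_0
  · exact rep_mk ok_1
  · exact rep_mk ok_2
  · exact rep_mk ok_3
  · exact rep_mk ok_4
  · exact rep_mk ok_5
  · exact CoSide.hM 12
  · exact CoSide.hM 13
  · exact CoSide.hM 14
  · exact Model.hM 6

/-- The six letters in `Co1`. -/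
def x (i : Fin 6) : Spor.Co1 := pr (e i.val)

/-- Value of a word. -/
abbrev val (l : List ℕ) : Spor.Co1 := (l.map fun i => pr (e i)).prod

theorem rel {u v : List ℕ} (h : sameB M u v = true) : val u = val v := eq_of_sameB hM h

theorem ne_one {l : List ℕ} (h : neB M l = true) : val l ≠ 1 := ne_one_of_neB hM h

theorem rels_check : (SporRec.G24Rel.R6.all fun r => relB M (r.map Fin.val)) = true := by decide +kernel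

theorem x_rel : ∀ r ∈ SporRec.G24Rel.R6, (r.map x).prod = 1 := by
  intro r hr
  have h := eq_one_of_relB hM (List.all_eq_true.mp rels_check r hr)
  rw [List.map_map] at h
  exact h

/-- Equality of words in `Co0`. -/
def eqB (u v : List ℕ) : Bool := eqL (fold M u betaL) (fold M v betaL)

theorem eq_of_eqB {u v : List ℕ} (h : eqB u v = true) : (u.map e).prod = (v.map e).prod := by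
  apply eq_of_fix
  have h1 := fold_spec hM u (l := betaL) (by decide) beta_coe
  have h2 := fold_spec hM v (l := betaL) (by decide) beta_coe
  apply Subtype.ext
  rw [h1.2, h2.2, eqL_eq h]

theorem comm_check : ((List.range 6).all fun i => eqB [i, 6] [6, i] && (eqB [i, 12] [12, i] &&
    eqB [i, 13] [13, i])) = true := by decide +kernel

theorem e_comm (i : Fin 6) : e i.val * e 6 = e 6 * e i.val ∧ e i.val * e 12 = e 12 * e i.val ∧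
    e i.val * e 13 = e 13 * e i.val := by
  have h := List.all_eq_true.mp comm_check i.val (List.mem_range.mpr i.isLt)
  rw [Bool.and_eq_true, Bool.and_eq_true] at h
  refine ⟨?_, ?_, ?_⟩
  · simpa using eq_of_eqB h.1
  · simpa using eq_of_eqB h.2.1
  · simpa using eq_of_eqB h.2.2

theorem x0_ne_one : x 0 ≠ 1 := by
  have h := ne_one (l := [0]) (by decide +kernel)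
  intro h0
  apply h
  show ([0].map fun i => pr (e i)).prod = 1
  rw [List.map_singleton, List.prod_singleton]
  exact h0

/-- The word of `zE = gx 6 0`. -/
def zw : List ℕ := [3, 2, 1, 5, 0, 1, 2, 3, 2, 1, 0, 1, 2, 3, 2, 1, 0, 5, 1, 2, 3]

theorem zw_sq : (zw.map e).prod * (zw.map e).prod = 1 := by
  have h := eq_one_of_oneB hM (w := zw ++ zw) (by decide +kernel)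
  rwa [List.map_append, List.prod_append] at h

theorem zw_ne : val zw ≠ 1 := ne_one (by decide +kernel)

/-- The list of `8 e_i`. -/
def unitL (i : ℕ) : List ℤ := (List.range 24).map fun j => if j = i then 8 else 0

/-- The trace (times 8) of a word. -/
def trW (w : List ℕ) : ℤ := ((List.range 24).map fun i => (fold M w (unitL i)).getD i 0).sum

theorem trW_zw_a : ((List.range 6).map fun i => (fold M zw (unitL i)).getD i 0).sum = -20 := by decide +kernel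
theorem trW_zw_b : ((List.range 6).map fun i => (fold M zw (unitL (i + 6))).getD (i + 6) 0).sum = -16 := by
  decide +kernel
theorem trW_zw_c : ((List.range 6).map fun i => (fold M zw (unitL (i + 12))).getD (i + 12) 0).sum = -20 := by
  decide +kernel
theorem trW_zw_d : ((List.range 6).map fun i => (fold M zw (unitL (i + 18))).getD (i + 18) 0).sum = -8 := by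
  decide +kernel

theorem range_four_six : List.range 24 = List.range 6 ++ ((List.range 6).map (· + 6) ++
    ((List.range 6).map (· + 12) ++ (List.range 6).map (· + 18))) := by decide

theorem trW_zw : trW zw = -64 := by
  have h : ∀ f : ℕ → ℤ, ((List.range 24).map f).sum = ((List.range 6).map f).sum +
      (((List.range 6).map fun i => f (i + 6)).sum + (((List.range 6).map fun i => f (i + 12)).sum +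
        ((List.range 6).map fun i => f (i + 18)).sum)) := by
    intro f
    rw [range_four_six, List.map_append, List.map_append, List.map_append, List.sum_append, List.sum_append,
      List.sum_append, List.map_map, List.map_map, List.map_map]
    rfl
  unfold trW
  rw [h, trW_zw_a, trW_zw_b, trW_zw_c, trW_zw_d]
  rfl

theorem vec_unitL {i : ℕ} (hi : i < 24) :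
    ((SporadicStructure.Co0Base.e8 (GolayBase.pt i) : leechLattice) : GolayPt → ℤ) = vec (unitL i) := by
  funext p
  rw [SporadicStructure.Co0Base.e8_coe]
  unfold vec unitL
  rw [show ((List.range 24).map fun j => if j = i then (8 : ℤ) else 0).getD (GolayBase.idx p) 0 =
    if GolayBase.idx p = i then 8 else 0 from getD_range_map _ p]
  by_cases h : p = GolayBase.pt i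
  · subst h
    rw [GolayBase.idx_pt hi, if_pos rfl]
    simp
  · rw [if_neg (fun h1 => h (by rw [← h1, GolayBase.pt_idx]))]
    simp [h]

theorem tr8_word (w : List ℕ) : Co2Type.Mono.tr8 (w.map e).prod = trW w := by
  unfold Co2Type.Mono.tr8 trW
  rw [GolayBase.sum_pt]
  show _ = ∑ i ∈ Finset.range 24, (fold M w (unitL i)).getD i 0
  refine Finset.sum_congr rfl fun i hi => ?_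
  have h := (fold_spec hM w (l := unitL i) (by simp [unitL]) (vec_unitL (Finset.mem_range.mp hi))).2
  have h2 := congrFun h (GolayBase.pt i)
  rw [vec_apply, GolayBase.idx_pt (Finset.mem_range.mp hi)] at h2
  exact h2

theorem tr8_zw : Co2Type.Mono.tr8 (zw.map e).prod = -64 := by rw [tr8_word, trW_zw]

end Cfsg.Agent.KFacts.Co1D4.Letters
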