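import Cfsg.Agent.StdG24.Facts6
import Cfsg.Agent.OddHalf.D4.Spor.LargeBase
import Cfsg.Agent.KFacts.Co1D4.Letters
import Cfsg.Agent.SporRec.G24Upper

-- merged: Cfsg.Agent.KFacts.Co1D4.SixCen
section

/-!
# The 2-central involutions of the six-dimensional model of `G₂(4)`

They are the conjugates of `lz` (`conj_z_of_cen`, `cen_lz`).
-/

set_option autoImplicit false

namespace Cfsg.Agent.KFacts.Co1D4.SixCen

open Cfsg.Agent.SporRec
open Cfsg.Agent.StdG24
open Cfsg.Agent.StdG24.Mod6
open Cfsg.Agent.StdG24.Al6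
open Cfsg.Agent.StdG24.Inv6
open Cfsg.Agent.OddHalf.D4.Spor (Cen)

theorem finite_L : Finite L := Nat.finite_of_card_ne_zero (by rw [Ord6.card_L]; norm_num)

theorem finite_Al : Finite Al := Nat.finite_of_card_ne_zero (by rw [card_Al]; norm_num)

/-- the centralizer of `v` has order at most `3840` -/
theorem card_Cv : Nat.card Cv ≤ 3840 := by
  have := finite_Al
  set f : (Fin 4 × Fin 4 × Fin 4) × Al → GL6 := fun p =>
    ev (Cv6.rw3 p.1.1.val p.1.2.1.val p.1.2.2.val) * p.2 with hf
  have h1 : (Cv : Set GL6) ⊆ Set.range f := by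
    intro g hg
    obtain ⟨c, hc, s, hs, t, ht, b, hb, h, -⟩ := Cv6.Cv_split hg
    exact ⟨((⟨c, hc⟩, ⟨s, hs⟩, ⟨t, ht⟩), ⟨b, hb⟩), h.symm⟩
  have h2 : Nat.card Cv ≤ Nat.card (Set.range f) := Nat.card_mono (Set.finite_range f) h1
  have h3 : Nat.card (Set.range f) ≤ Nat.card ((Fin 4 × Fin 4 × Fin 4) × Al) :=
    Nat.card_le_card_of_surjective _ Set.rangeFactorization_surjective
  rw [Nat.card_prod, Nat.card_prod, Nat.card_prod, Nat.card_fin, card_Al] at h3
  omega

/-- `v` is not 2-central -/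
theorem not_cen_v : ¬ Cen lv := by
  rintro ⟨S, hS⟩
  have := finite_L
  have : Fact (Nat.Prime 2) := ⟨Nat.prime_two⟩
  have h1 : Nat.card S = 4096 := by
    rw [Sylow.card_eq_multiplicity]
    have : Nat.card L = 251596800 := Ord6.card_L
    rw [this, show 251596800 = 2 ^ 12 * 61425 by norm_num]
    rw [Nat.factorization_mul (by norm_num) (by norm_num), Nat.Prime.factorization_pow Nat.prime_two]
    rw [Finsupp.add_apply, Finsupp.single_eq_same, Nat.factorization_eq_zero_of_not_dvd (by norm_num)]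
    norm_num
  have h2 : ((S : Subgroup L).map L.subtype) ≤ Cv := by
    rintro _ ⟨s, hs, rfl⟩
    exact ⟨s.2, congrArg Subtype.val (hS s hs)⟩
  have h3 : Nat.card ((S : Subgroup L).map L.subtype) = 4096 := by
    rw [← h1]
    exact Subgroup.card_map_of_injective L.subtype_injective
  have : Finite Cv := Nat.finite_of_card_ne_zero (fun h0 => by
    have hL := finite_L
    have : Finite Cv := Finite.of_injective (fun c : Cv => (⟨c.1, c.2.1⟩ : L)) (fun a b h => by
      apply Subtype.ext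
      exact congrArg (fun y : L => (y : GL6)) h)
    exact Nat.card_pos.ne' h0)
  have h4 := Subgroup.card_le_of_le h2
  have h5 := card_Cv
  omega

/-- (F4) in `L` -/
theorem conj_cases {t : L} (htt : t * t = 1) (ht1 : t ≠ 1) :
    (∃ g : L, g * t * g⁻¹ = lz) ∨ ∃ g : L, g * t * g⁻¹ = lv := by
  rcases Cls6.conj_z_or_v t.2 (congrArg Subtype.val htt) (fun h => ht1 (Subtype.ext h)) with
    ⟨g, hg, h⟩ | ⟨g, hg, h⟩
  · exact Or.inl ⟨⟨g, hg⟩, Subtype.ext h⟩
  · exact Or.inr ⟨⟨g, hg⟩, Subtype.ext h⟩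

theorem conj_z_of_cen {t : L} (htt : t * t = 1) (ht1 : t ≠ 1) (h : Cen t) : ∃ g : L, g * t * g⁻¹ = lz := by
  rcases conj_cases htt ht1 with h1 | ⟨g, h1⟩
  · exact h1
  · exact absurd (h1 ▸ OddHalf.D4.Spor.LargeBase.cen_conj g h) not_cen_v

/-- a finite group of order divisible by four has a 2-central involution -/
theorem exists_cen {X : Type*} [Group X] [Finite X] (h4 : 4 ∣ Nat.card X) :
    ∃ t : X, t * t = 1 ∧ t ≠ 1 ∧ Cen t := by
  have : Fact (Nat.Prime 2) := ⟨Nat.prime_two⟩
  obtain ⟨S⟩ : Nonempty (Sylow 2 X) := inferInstance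
  have h5 : 4 ∣ Nat.card S := Sylow.pow_dvd_card_of_pow_dvd_card (p := 2) (n := 2) S h4
  obtain ⟨t, htS, htt, ht1, h⟩ := OddHalf.D4.Spor.exists_central_invol S.2 h5
  exact ⟨t, htt, ht1, S, h⟩

theorem cen_lz : Cen lz := by
  have := finite_L
  obtain ⟨t, htt, ht1, h⟩ := exists_cen (X := L) (by rw [Ord6.card_L]; norm_num)
  obtain ⟨g, hg⟩ := conj_z_of_cen htt ht1 h
  rw [← hg]
  exact OddHalf.D4.Spor.LargeBase.cen_conj g h

end Cfsg.Agent.KFacts.Co1D4.SixCen

end

-- merged: Cfsg.Agent.KFacts.Co1D4.GTwo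
section

/-!
# The subgroup `L ≅ G₂(4)` of `Co₁` generated by the six letters
-/

set_option autoImplicit false

namespace Cfsg.Agent.KFacts.Co1D4.GTwo

open Cfsg Cfsg.Agent.SporRec Cfsg.Agent.StdG24
open Cfsg.Agent.OddHalf.D4.Spor (Cen)
open scoped commutatorElement

theorem prod_pair {A B : Type*} [Group A] [Group B] (a : Fin 6 → A) (b : Fin 6 → B) (w : List (Fin 6)) :
    (w.map fun i => (a i, b i)).prod = ((w.map a).prod, (w.map b).prod) := by
  induction w with
  | nil => rfl
  | cons i w ih => rw [List.map_cons, List.prod_cons, ih]; rfl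

/-- Six elements satisfying the relators, not all trivial: an isomorphism respecting the letters. -/
theorem exists_equiv {G : Type*} [Group G] (x : Fin 6 → G)
    (hx : ∀ w ∈ G24Rel.R6, (w.map x).prod = 1) (K : Subgroup G)
    (hK : Subgroup.closure (Set.range x) = K) {i₀ : Fin 6} (h₀ : x i₀ ≠ 1) :
    ∃ φ : Mod6.L ≃* K, ∀ i, ((φ ⟨Ord6.B i, Ord6.B_mem i⟩ : K) : G) = x i := by
  classical
  obtain ⟨hfin, hcard⟩ := G24Upper.card_closure_le (fun i => (Ord6.B i, x i)) (fun w hw => by
    rw [prod_pair, Ord6.B_rel w hw, hx w hw]; rfl)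
  set D := Subgroup.closure (Set.range fun i => (Ord6.B i, x i)) with hD
  have e1 : D.map (MonoidHom.fst _ G) = Mod6.L := by
    rw [hD, MonoidHom.map_closure, ← Set.range_comp, ← Ord6.closure_B]; rfl
  have e2 : D.map (MonoidHom.snd _ G) = K := by
    rw [hD, MonoidHom.map_closure, ← hK, ← Set.range_comp]; rfl
  let f1 : D →* Mod6.L := ((MonoidHom.fst _ G).comp D.subtype).codRestrict Mod6.L
    (fun d => by rw [← e1]; exact ⟨d, d.2, rfl⟩)
  let f2 : D →* K := ((MonoidHom.snd _ G).comp D.subtype).codRestrict K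
    (fun d => by rw [← e2]; exact ⟨d, d.2, rfl⟩)
  have s1 : Function.Surjective f1 := by
    rintro ⟨g, hg⟩
    rw [← e1] at hg
    obtain ⟨d, hd, rfl⟩ := hg
    exact ⟨⟨d, hd⟩, rfl⟩
  have s2 : Function.Surjective f2 := by
    rintro ⟨g, hg⟩
    rw [← e2] at hg
    obtain ⟨d, hd, rfl⟩ := hg
    exact ⟨⟨d, hd⟩, rfl⟩
  have b1 : Function.Bijective f1 := by
    refine (Nat.bijective_iff_surjective_and_card f1).2 ⟨s1, le_antisymm ?_ ?_⟩
    · rw [Ord6.card_L]; exact hcard
    · have := SixCen.finite_L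
      exact Nat.card_le_card_of_surjective f1 s1
  have eD := MulEquiv.ofBijective f1 b1
  have hsD : IsSimpleGroup D := by
    have := Facts6.simple_L
    exact MulEquiv.isSimpleGroup eD
  have b2 : Function.Bijective f2 := by
    refine ⟨?_, s2⟩
    rw [← MonoidHom.ker_eq_bot_iff]
    rcases (inferInstance : f2.ker.Normal).eq_bot_or_eq_top with h | h
    · exact h
    · exfalso
      apply h₀
      have h1 : (⟨(Ord6.B i₀, x i₀), Subgroup.subset_closure ⟨i₀, rfl⟩⟩ : D) ∈ f2.ker := by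
        rw [h]; exact Subgroup.mem_top _
      exact congrArg (fun y : K => (y : G)) h1
  refine ⟨(MulEquiv.ofBijective f1 b1).symm.trans (MulEquiv.ofBijective f2 b2), fun i => ?_⟩
  set d : D := ⟨(Ord6.B i, x i), Subgroup.subset_closure ⟨i, rfl⟩⟩ with hd
  have h1 : (MulEquiv.ofBijective f1 b1) d = ⟨Ord6.B i, Ord6.B_mem i⟩ := rfl
  have h2 : (MulEquiv.ofBijective f1 b1).symm ⟨Ord6.B i, Ord6.B_mem i⟩ = d := by
    rw [← h1, MulEquiv.symm_apply_apply]
  rw [MulEquiv.trans_apply, h2]
  rfl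

/-- The subgroup `G₂(4)`. -/
def L : Subgroup Spor.Co1 := Subgroup.closure (Set.range Letters.x)

theorem exists_iso : ∃ φ : Mod6.L ≃* L, ∀ i, ((φ ⟨Ord6.B i, Ord6.B_mem i⟩ : L) : Spor.Co1) = Letters.x i :=
  exists_equiv Letters.x Letters.x_rel L rfl Letters.x0_ne_one

/-- The isomorphism. -/
noncomputable def φ : Mod6.L ≃* L := exists_iso.choose

theorem φ_B (i : Fin 6) : ((φ ⟨Ord6.B i, Ord6.B_mem i⟩ : L) : Spor.Co1) = Letters.x i := exists_iso.choose_spec i

theorem card_L : Nat.card L = 251596800 := by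
  rw [← Nat.card_congr φ.toEquiv, Ord6.card_L]

theorem simple_L : IsSimpleGroup L := by
  have := Facts6.simple_L
  exact MulEquiv.isSimpleGroup φ.symm

theorem perf_L : ⁅L, L⁆ = L := by
  have h1 : commutator L = ⊤ := by
    have h := Facts6.perf_L
    have h2 := congrArg (Subgroup.map φ.toMonoidHom) h
    rw [commutator_def, Subgroup.map_commutator, ← MonoidHom.range_eq_map, MonoidHom.range_eq_top.mpr φ.surjective] at h2
    exact h2
  have h3 := congrArg (Subgroup.map L.subtype) h1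
  rw [commutator_def, Subgroup.map_commutator, ← MonoidHom.range_eq_map, Subgroup.range_subtype] at h3
  exact h3

/-- elements commuting with the letters commute with `L` -/
theorem comm_of {g : Spor.Co1} (h : ∀ i, Letters.x i * g = g * Letters.x i) : ∀ l ∈ L, l * g = g * l := by
  have h1 : L ≤ Subgroup.centralizer ({g} : Set Spor.Co1) := by
    unfold L
    rw [Subgroup.closure_le]
    rintro _ ⟨i, rfl⟩
    exact Subgroup.mem_centralizer_singleton_iff.mpr (h i)
  exact fun l hl => Subgroup.mem_centralizer_singleton_iff.mp (h1 hl)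

theorem zw_eq : Letters.zw = (G24Match.wx 6 0).map Fin.val := by decide +kernel

/-- the image of `z` is the element given by the word `zw` -/
theorem φ_lz : ((φ Inv6.lz : L) : Spor.Co1) = Letters.val Letters.zw := by
  have h1 : Inv6.lz = ((G24Match.wx 6 0).map fun i => (⟨Ord6.B i, Ord6.B_mem i⟩ : Mod6.L)).prod := by
    apply Subtype.ext
    have h2 : ((((G24Match.wx 6 0).map fun i => (⟨Ord6.B i, Ord6.B_mem i⟩ : Mod6.L)).prod : Mod6.L) : Mod6.GL6) =
        ((G24Match.wx 6 0).map Ord6.B).prod := by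
      generalize G24Match.wx 6 0 = w
      induction w with
      | nil => rfl
      | cons i w ih => rw [List.map_cons, List.prod_cons, List.map_cons, List.prod_cons, ← ih]; rfl
    rw [h2, ← Ord6.gx_eq]
    rfl
  rw [h1, zw_eq]
  unfold Letters.val
  rw [List.map_map]
  generalize G24Match.wx 6 0 = w
  induction w with
  | nil => simp
  | cons i w ih =>
    rw [List.map_cons, List.prod_cons, List.map_cons, List.prod_cons, ← ih, map_mul]
    show (φ ⟨Ord6.B i, Ord6.B_mem i⟩ : Spor.Co1) * _ = _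
    rw [φ_B]; rfl

end Cfsg.Agent.KFacts.Co1D4.GTwo

end
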